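import Groth.Agent.S0516
import Mathlib.AlgebraicGeometry.Morphisms.Finite
import Mathlib.AlgebraicGeometry.Morphisms.FormallyUnramified
import Mathlib.AlgebraicGeometry.Morphisms.ClosedImmersion

/-!
# Finite unramified schemes over strictly henselian local rings
-/

set_option autoImplicit false
set_option linter.style.haveILetI false
set_option backward.isDefEq.respectTransparency.types false
universe u

open CategoryTheory AlgebraicGeometry TopologicalSpace

noncomputable section

namespace Groth.Agent.StrictHens25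

theorem ring_split {R S : Type u} [CommRing R] [HenselianLocalRing R] [IsSepClosed (IsLocalRing.ResidueField R)]
    [CommRing S] [Algebra R S] [Algebra.Unramified R S] [Module.Finite R S] (P : Ideal S) [hP : P.IsPrime] :
    ∃ e : S, e ∉ P ∧ e * (1 - e) = 0 ∧ ∀ x : S, ∃ r : R, x * e = algebraMap R S r * e := by
  classical
  obtain ⟨ι, _, A, _, _, B, _, _, hsurj, hB, ⟨ψ⟩⟩ := Groth.Agent.S0516.result R S
  haveI : Module.Finite R B := Module.Finite.of_surjective
    ((AlgHom.snd R (∀ i, A i) B).comp ψ.toAlgHom).toLinearMap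
    (fun b => ⟨ψ.symm (0, b), by simp⟩)
  haveI : Subsingleton B := by
    have h0 : (⊤ : Submodule R B) = ⊥ := by
      refine Submodule.eq_bot_of_le_smul_of_le_jacobson_bot (IsLocalRing.maximalIdeal R) ⊤ Module.Finite.fg_top ?_
        (IsLocalRing.maximalIdeal_le_jacobson ⊥)
      rw [Ideal.smul_top_eq_map, hB]
      exact le_of_eq (by ext; simp)
    refine subsingleton_of_forall_eq 0 fun b => ?_
    have hb : b ∈ (⊥ : Submodule R B) := h0 ▸ Submodule.mem_top
    simpa using hb
  let e : ι → S := fun i => ψ.symm (Pi.single i 1, 0)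
  have he : ∑ i, e i = 1 := by
    apply ψ.injective
    rw [map_sum, map_one]
    refine Prod.ext ?_ (Subsingleton.elim _ _)
    rw [Prod.fst_sum]
    simp [e, Finset.univ_sum_single (fun i => (1 : A i))]
    rfl
  obtain ⟨i, hi⟩ : ∃ i, e i ∉ P := by
    by_contra! hall
    exact hP.ne_top ((Ideal.eq_top_iff_one P).2 (he ▸ Ideal.sum_mem P fun i _ => hall i))
  refine ⟨e i, hi, ?_, fun x => ?_⟩
  · apply ψ.injective
    rw [map_mul, map_sub, map_one, map_zero]
    refine Prod.ext (funext fun j => ?_) (Subsingleton.elim _ _)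
    rcases eq_or_ne j i with rfl | hne <;> simp [e, *]
  · obtain ⟨r, hr⟩ := hsurj i ((ψ x).1 i)
    refine ⟨r, ψ.injective ?_⟩
    rw [map_mul, map_mul, AlgEquiv.commutes]
    refine Prod.ext (funext fun j => ?_) (Subsingleton.elim _ _)
    rcases eq_or_ne j i with rfl | hne <;> simp [e, *]

/-- Every point of a finite unramified scheme over a strictly henselian local scheme lies in a clopen
part mapping monomorphically to the base. -/
theorem exists_clopen_mono {A : Type u} [CommRing A] [HenselianLocalRing A]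
    [IsSepClosed (IsLocalRing.ResidueField A)] {W : Scheme.{u}} (π : W ⟶ Spec (CommRingCat.of A))
    [IsFinite π] [FormallyUnramified π] (w : W) :
    ∃ D : W.Opens, w ∈ D ∧ IsClosed (D : Set W) ∧ IsClosedImmersion (D.ι ≫ π) := by
  haveI : IsAffine W := isAffine_of_isAffineHom π
  let φ : CommRingCat.of A ⟶ Γ(W, ⊤) := (Scheme.ΓSpecIso (CommRingCat.of A)).inv ≫ π.appTop
  have hfin : φ.hom.Finite :=
    (π.finite_app _ (isAffineOpen_top _)).comp
      (RingHom.Finite.of_surjective _ (Scheme.ΓSpecIso (CommRingCat.of A)).symm.commRingCatIsoToRingEquiv.surjective)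
  have hun : φ.hom.FormallyUnramified := by
    refine RingHom.FormallyUnramified.stableUnderComposition _ _ ?_ (HasRingHomProperty.appTop @FormallyUnramified π ‹_›)
    exact RingHom.FormallyUnramified.of_surjective
      (Scheme.ΓSpecIso (CommRingCat.of A)).symm.commRingCatIsoToRingEquiv.surjective
  letI := φ.hom.toAlgebra
  haveI : Module.Finite A Γ(W, ⊤) := hfin
  haveI : Algebra.FormallyUnramified A Γ(W, ⊤) := hun
  haveI : Algebra.Unramified A Γ(W, ⊤) := { }
  let P := ((isAffineOpen_top W).primeIdealOf ⟨w, trivial⟩).asIdeal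
  obtain ⟨e, he, hee, hsurj⟩ := ring_split (R := A) P
  let D := W.basicOpen e
  have hwD : w ∈ D := by
    rw [show D = W.basicOpen e from rfl, W.mem_basicOpen_top e w]
    letI := W.presheaf.algebra_section_stalk (U := ⊤) ⟨w, trivial⟩
    haveI : IsLocalization.AtPrime (W.presheaf.stalk w) P := (isAffineOpen_top W).isLocalization_stalk ⟨w, trivial⟩
    exact (IsLocalization.AtPrime.isUnit_to_map_iff (W.presheaf.stalk w) P e).2 he
  refine ⟨D, hwD, ?_, ?_⟩
  · have h0 : D ⊓ W.basicOpen (1 - e) = ⊥ := by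
      rw [← Scheme.basicOpen_mul, hee, Scheme.basicOpen_zero]
    have : (D : Set W) = (W.basicOpen (1 - e) : Set W)ᶜ := by
      ext z
      refine ⟨fun hz hz' => (h0.le ⟨hz, hz'⟩ : z ∈ (⊥ : W.Opens)), fun hz => ?_⟩
      rw [SetLike.mem_coe, W.mem_basicOpen_top e z]
      have hz' : ¬ IsUnit (W.presheaf.germ ⊤ z trivial (1 - e)) := fun h =>
        hz ((W.mem_basicOpen_top (1 - e) z).2 h)
      refine (IsLocalRing.isUnit_or_isUnit_of_add_one ?_).resolve_right hz'
      rw [← map_add, add_sub_cancel, map_one]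
    rw [this]
    exact (W.basicOpen (1 - e)).2.isClosed_compl
  · haveI : IsAffine (D : Scheme.{u}) := (isAffineOpen_top W).basicOpen e
    refine IsClosedImmersion.of_surjective_of_isAffine _ ?_
    intro y
    obtain ⟨y, rfl⟩ := D.topIso.symm.commRingCatIsoToRingEquiv.surjective y
    letI := (W.presheaf.map (homOfLE (le_top : D ≤ ⊤)).op).hom.toAlgebra
    haveI : IsLocalization.Away e Γ(W, D) := (isAffineOpen_top W).isLocalization_basicOpen e
    obtain ⟨x, ⟨_, n, rfl⟩, rfl⟩ := IsLocalization.exists_mk'_eq (Submonoid.powers e) y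
    obtain ⟨r, hr⟩ := hsurj x
    have h1 : algebraMap Γ(W, ⊤) Γ(W, D) e = 1 := by
      have hu : IsUnit (algebraMap Γ(W, ⊤) Γ(W, D) e) := IsLocalization.Away.algebraMap_isUnit e
      refine hu.mul_left_cancel ?_
      rw [mul_one, ← map_mul]
      congr 1
      linear_combination -hee
    refine ⟨(Scheme.ΓSpecIso (CommRingCat.of A)).inv r, ?_⟩
    have h2 : IsLocalization.mk' Γ(W, D) x (⟨e ^ n, n, rfl⟩ : Submonoid.powers e) =
        algebraMap Γ(W, ⊤) Γ(W, D) (φ r) := by
      rw [IsLocalization.mk'_eq_iff_eq_mul]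
      show algebraMap _ Γ(W, D) x = _ * algebraMap Γ(W, ⊤) Γ(W, D) (e ^ n)
      rw [map_pow, h1, one_pow, mul_one, ← mul_one (algebraMap _ Γ(W, D) x), ← h1, ← map_mul, hr, map_mul, h1, mul_one]
      rfl
    rw [h2, Scheme.Hom.comp_appTop, CommRingCat.comp_apply, Scheme.Opens.ι_appTop]
    apply D.topIso.commRingCatIsoToRingEquiv.injective
    show D.topIso.hom _ = D.topIso.hom (D.topIso.inv _)
    rw [Iso.inv_hom_id_apply]
    show (W.presheaf.map (homOfLE (le_top : D.ι ''ᵁ ⊤ ≤ ⊤)).op ≫ D.topIso.hom) (π.appTop _) =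
      W.presheaf.map (homOfLE (le_top : D ≤ ⊤)).op (π.appTop _)
    rw [Scheme.Opens.topIso_hom]
    erw [← Functor.map_comp]
    rfl

end Groth.Agent.StrictHens25
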